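import Cfsg.Agent.H209.IF.Kill
import Cfsg.Agent.H677.IF.Kill
import Cfsg.Agent.H371.IFx.Base
import Cfsg.Agent.H999.IF.EngB
import Cfsg.Agent.H968.TwoReeB
import Cfsg.Agent.H137.K4.ReeInv
import Cfsg.Agent.S0806
import Cfsg.Agent.SmallSimple.PSLTwoPart
import Cfsg.Agent.H947.Cyc.Psl2

/-!
# S5719: the row of the small Ree groups (helper715)

`f ^ 5 < |t^T| < q ^ 4`, so `f < q`; the centralizer `2 × PSL₂(q)` has no subgroup of index less than `q` containing
its central involution, so `C_T(t) ≤ A` for all involutions `t` of `A`, and the outer automorphism group has odd order.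
-/

set_option autoImplicit false
set_option linter.unusedSectionVars false

namespace Cfsg.Agent.H715.IF.Ree

open MulAction Subgroup Cfsg.Agent.H209.Fxy Cfsg.Agent.H968.TwoRee

/-- a subgroup of `L × Z₂` of index at most `q`, where the proper subgroups of `L` have index greater than `q`, containing
a nontrivial central element -/
theorem eq_top_of_index {L : Type*} [Group L] [Finite L] (hZ : center L = ⊥) {q : ℕ}
    (hL : ∀ H : Subgroup L, H ≠ ⊤ → q + 1 ≤ H.index) (M : Subgroup (L × Multiplicative (ZMod 2)))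
    (hM : M.index ≤ q) {z : L × Multiplicative (ZMod 2)} (hz : z ∈ M) (hz1 : z ≠ 1)
    (hc : ∀ x, z * x = x * z) : M = ⊤ := by
  have h1 : M.comap (MonoidHom.inl L (Multiplicative (ZMod 2))) = ⊤ := by
    by_contra hne
    have h2 := hL _ hne
    have h3 : (M.comap (MonoidHom.inl L (Multiplicative (ZMod 2)))).index ≤ M.index := by
      rw [Subgroup.index_comap, ← M.relIndex_top_right]
      exact Subgroup.relIndex_le_of_le_right le_top (by
        rw [M.relIndex_top_right]
        exact M.index_ne_zero_of_finite)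
    omega
  have hl : ∀ l : L, (l, (1 : Multiplicative (ZMod 2))) ∈ M := by
    intro l
    have h2 : l ∈ M.comap (MonoidHom.inl L (Multiplicative (ZMod 2))) := by rw [h1]; exact mem_top _
    exact h2
  have hz0 : z.1 = 1 := by
    have h2 : z.1 ∈ center L := by
      rw [mem_center_iff]
      intro g
      exact (congrArg Prod.fst (hc (g, 1))).symm
    rw [hZ, mem_bot] at h2
    exact h2
  have hz2 : z.2 ≠ 1 := fun h => hz1 (Prod.ext hz0 h)
  rw [eq_top_iff]
  rintro ⟨l, s⟩ -
  by_cases hs : s = 1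
  · rw [hs]; exact hl l
  · have h3 : s = z.2 := by
      have key : ∀ a b : Multiplicative (ZMod 2), a ≠ 1 → b ≠ 1 → a = b := by decide
      exact key _ _ hs hz2
    have h4 : (l, s) = (l, (1 : Multiplicative (ZMod 2))) * z := by
      refine Prod.ext ?_ ?_
      · show l = l * z.1
        rw [hz0, mul_one]
      · show s = 1 * z.2
        rw [one_mul, h3]
    rw [h4]
    exact M.mul_mem (hl l) hz

theorem ineq {q c : ℕ} (hq : 2 ≤ q) (h : 2 * (c * (q * (q ^ 2 - 1))) = 2 * (q ^ 3 * (q - 1) * (q ^ 3 + 1))) : c < q ^ 5 := by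
  obtain ⟨r, rfl⟩ : ∃ r, q = r + 1 := ⟨q - 1, by omega⟩
  have e1 : (r + 1) ^ 2 - 1 = r * (r + 2) := by
    have : (r + 1) ^ 2 = r * (r + 2) + 1 := by ring
    omega
  rw [e1, Nat.add_sub_cancel] at h
  have hr : 0 < r := by omega
  have h2 : c * (r + 2) * ((r + 1) * r) = (r + 1) ^ 2 * ((r + 1) ^ 3 + 1) * ((r + 1) * r) := by nlinarith
  have h3 : c * (r + 2) = (r + 1) ^ 2 * ((r + 1) ^ 3 + 1) := Nat.eq_of_mul_eq_mul_right (by positivity) h2
  have h4 : c * (r + 2) < (r + 1) ^ 5 * (r + 2) := by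
    rw [h3]
    have h5 : (r + 1) ^ 3 + 1 < (r + 1) ^ 3 * (r + 2) := by
      have h6 : 1 ≤ (r + 1) ^ 3 := Nat.one_le_pow _ _ (by omega)
      nlinarith
    calc (r + 1) ^ 2 * ((r + 1) ^ 3 + 1) < (r + 1) ^ 2 * ((r + 1) ^ 3 * (r + 2)) :=
          Nat.mul_lt_mul_of_pos_left h5 (by positivity)
      _ = _ := by ring
  exact Nat.lt_of_mul_lt_mul_right h4

/-- `C_T(t) ≤ A` -/
theorem cent_le {T : Type} [Group T] [Finite T] [IsSimpleGroup T] (hna : ∃ a b : T, a * b ≠ b * a)
    {K : Type} [Field K] [Fintype K] {m : ℕ} (hm : 1 ≤ m) (hK : Fintype.card K = 3 ^ (2 * m + 1))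
    (F : Facts T K (3 ^ (2 * m + 1))) {A : Subgroup T} {Γ : Subgroup (MulAut T)} (h : IF A Γ) {t : T}
    (htA : t ∈ A) (ht : orderOf t = 2) : centralizer ({t} : Set T) ≤ A := by
  have hq := four_lt hm
  -- the centralizer of `t`
  obtain ⟨t0, ht0, ⟨f0⟩⟩ := F.cent
  obtain ⟨g, hg⟩ := isConj_iff.1 (F.conj t t0 ht ht0)
  have hmap : (centralizer ({t} : Set T)).map (MulAut.conj g).toMonoidHom = centralizer ({t0} : Set T) := by
    ext x
    rw [Subgroup.mem_map_equiv, MulAut.conj_symm_apply, mem_centralizer_singleton_iff, mem_centralizer_singleton_iff, ← hg]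
    constructor
    · intro h1
      calc x * (g * t * g⁻¹) = g * ((g⁻¹ * x * g) * t) * g⁻¹ := by group
        _ = g * (t * (g⁻¹ * x * g)) * g⁻¹ := by rw [h1]
        _ = g * t * g⁻¹ * x := by group
    · intro h1
      calc g⁻¹ * x * g * t = g⁻¹ * (x * (g * t * g⁻¹)) * g := by group
        _ = g⁻¹ * (g * t * g⁻¹ * x) * g := by rw [h1]
        _ = t * (g⁻¹ * x * g) := by group
  let f : centralizer ({t} : Set T) ≃* Matrix.ProjectiveSpecialLinearGroup (Fin 2) K × Multiplicative (ZMod 2) :=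
    (((MulAut.conj g).subgroupMap _).trans (MulEquiv.subgroupCongr hmap)).trans f0
  -- the order of the class
  have hσ : MulAut.conj t ∈ Γ := (h.conj t).2 htA
  have hso : orderOf (MulAut.conj t) = 2 := by rw [Cfsg.Agent.H677.SE.ord_conjAut hna, ht]
  have hE2 := (Cfsg.Agent.H999.IFB.IF.E2 h hσ hso).1
  have hcl := Cfsg.Agent.H999.IFB.card_icl hna (MulAut.conj t)
  have hc1 : Nat.card {x : T // MulAut.conj t x = x} = Nat.card (centralizer ({t} : Set T)) := by
    refine Nat.card_congr (Equiv.subtypeEquivRight fun x => ?_)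
    rw [mem_centralizer_singleton_iff, MulAut.conj_apply, mul_inv_eq_iff_eq_mul]
    exact eq_comm
  have hPo := Cfsg.Agent.SmallSimple.PSLTwoPart.card_psl_two_odd (F := K) (by rw [hK]; exact (by decide : Odd 3).pow)
  have hc2 : Nat.card (centralizer ({t} : Set T)) = 3 ^ (2 * m + 1) * ((3 ^ (2 * m + 1)) ^ 2 - 1) := by
    rw [Nat.card_congr f.toEquiv, Nat.card_prod, Nat.card_congr Multiplicative.toAdd, Nat.card_zmod, mul_comm, hPo, hK]
  rw [hc1, hc2, F.card] at hcl
  have hlt := ineq (by omega) (congrArg (fun x => 2 * x) hcl)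
  have hfq : fx A (MulAut.conj t) < 3 ^ (2 * m + 1) :=
    lt_of_pow_lt_pow_left₀ 5 (Nat.zero_le _) (hE2.trans hlt)
  -- the index in the centralizer
  have hidx : A.relIndex (centralizer ({t} : Set T)) ≤ fx A (MulAut.conj t) := by
    refine Cfsg.Agent.H371.IFx.relIndex_le_fx A ?_
    intro b hb
    rw [mem_centralizer_singleton_iff] at hb
    rw [MulAut.conj_apply, ← hb, mul_inv_cancel_right]
  obtain ⟨hPs, hPc⟩ : IsSimpleGroup (Matrix.ProjectiveSpecialLinearGroup (Fin 2) K) ∧
      center (Matrix.ProjectiveSpecialLinearGroup (Fin 2) K) = ⊥ := Cfsg.Agent.H947.Cyc.psl2_facts (by omega)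
  have hmin := (Cfsg.Agent.S0806.result (F := K) hK (by
    intro hmem
    simp only [Finset.mem_insert, Finset.mem_singleton] at hmem
    omega)).1
  have htc : t ∈ centralizer ({t} : Set T) := mem_centralizer_singleton_iff.2 rfl
  have htop := eq_top_of_index hPc hmin ((A.subgroupOf (centralizer ({t} : Set T))).map f.toMonoidHom) (by
      have h1 := Subgroup.index_map_equiv (A.subgroupOf (centralizer ({t} : Set T))) f
      exact (h1.le.trans hidx).trans hfq.le) (z := f ⟨t, htc⟩) ⟨⟨t, htc⟩, htA, rfl⟩ (by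
      intro h1
      have h2 := f.injective (h1.trans (map_one f).symm)
      have h3 : t = 1 := congrArg Subtype.val h2
      rw [h3, orderOf_one] at ht
      omega) (by
      intro x
      obtain ⟨y, rfl⟩ := f.surjective x
      rw [← map_mul, ← map_mul]
      congr 1
      apply Subtype.ext
      exact (mem_centralizer_singleton_iff.1 y.2).symm)
  intro x hx
  have h1 : f ⟨x, hx⟩ ∈ (A.subgroupOf (centralizer ({t} : Set T))).map f.toMonoidHom := by rw [htop]; exact mem_top _
  obtain ⟨y, hy, he⟩ := h1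
  have h2 : y = ⟨x, hx⟩ := f.injective he
  rw [h2] at hy
  exact hy

/-- **S5719, the row of the small Ree groups.** -/
theorem row_ree : Row fun T => Lie.IsoRee T := by
  intro T _ _ _ hn hT A Γ h
  have hna : ∃ a b : T, a * b ≠ b * a := by
    by_contra hcon
    push Not at hcon
    exact hn ⟨⟨hcon⟩⟩
  have hin : ∀ σ ∈ Γ, orderOf σ = 2 → ∃ a : T, σ = MulAut.conj a := by
    intro σ _ h2
    obtain ⟨s, hs⟩ := Cfsg.Agent.H137.K4.inner_ree hT σ ⟨1, 1, fun x => by
      have h3 : σ ^ 2 ^ 1 = 1 := by rw [pow_one, ← h2, pow_orderOf_eq_one]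
      rw [h3, MulAut.one_apply, one_mul, inv_one, mul_one]⟩
    exact ⟨s, MulEquiv.ext fun x => by rw [hs, MulAut.conj_apply]⟩
  obtain ⟨K, _, _, m, hm, hK, ⟨e⟩⟩ := hT
  have F := (facts hm hK).congr e
  exact Cfsg.Agent.H677.SE.kill_inner h hna hin fun t htA ht => cent_le hna hm hK F h htA ht

end Cfsg.Agent.H715.IF.Ree
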